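import Cfsg.Agent.H0.EH2M.D
set_option maxRecDepth 100000
set_option Elab.async false
namespace H0.EH2M
open H0 BN H2M
theorem a0 : allL D.tA ((TA.drop 0).take 2) = true := by decide +kernel
theorem a8 : allL D.tA ((TA.drop 8).take 2) = true := by decide +kernel
theorem a16 : allL D.tA ((TA.drop 16).take 2) = true := by decide +kernel
theorem b3 : allL D.tB ((TB.drop 3).take 1) = true := by decide +kernel
theorem b7 : allL D.tB ((TB.drop 7).take 1) = true := by decide +kernel
theorem b11 : allL D.tB ((TB.drop 11).take 1) = true := by decide +kernel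
theorem b15 : allL D.tB ((TB.drop 15).take 1) = true := by decide +kernel
theorem c1 : allL (D.tC Z) ((((pcE 2 Dat.l7 W).zip MU).drop 1).take 1) = true := by decide +kernel
theorem c5 : allL (D.tC Z) ((((pcE 2 Dat.l7 W).zip MU).drop 5).take 1) = true := by decide +kernel
theorem c9 : allL (D.tC Z) ((((pcE 2 Dat.l7 W).zip MU).drop 9).take 1) = true := by decide +kernel
theorem c13 : allL (D.tC Z) ((((pcE 2 Dat.l7 W).zip MU).drop 13).take 1) = true := by decide +kernel
theorem c17 : allL (D.tC Z) ((((pcE 2 Dat.l7 W).zip MU).drop 17).take 1) = true := by decide +kernel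
theorem c21 : allL (D.tC Z) ((((pcE 2 Dat.l7 W).zip MU).drop 21).take 1) = true := by decide +kernel
theorem c25 : allL (D.tC Z) ((((pcE 2 Dat.l7 W).zip MU).drop 25).take 1) = true := by decide +kernel
end H0.EH2M
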