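import Cfsg.Agent.H0.EH2M.D
set_option maxRecDepth 100000
set_option Elab.async false
namespace H0.EH2M
open H0 BN H2M
theorem a2 : allL D.tA ((TA.drop 2).take 2) = true := by decide +kernel
theorem a10 : allL D.tA ((TA.drop 10).take 2) = true := by decide +kernel
theorem b0 : allL D.tB ((TB.drop 0).take 1) = true := by decide +kernel
theorem b4 : allL D.tB ((TB.drop 4).take 1) = true := by decide +kernel
theorem b8 : allL D.tB ((TB.drop 8).take 1) = true := by decide +kernel
theorem b12 : allL D.tB ((TB.drop 12).take 1) = true := by decide +kernel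
theorem b16 : allL D.tB ((TB.drop 16).take 1) = true := by decide +kernel
theorem c2 : allL (D.tC Z) ((((pcE 2 Dat.l7 W).zip MU).drop 2).take 1) = true := by decide +kernel
theorem c6 : allL (D.tC Z) ((((pcE 2 Dat.l7 W).zip MU).drop 6).take 1) = true := by decide +kernel
theorem c10 : allL (D.tC Z) ((((pcE 2 Dat.l7 W).zip MU).drop 10).take 1) = true := by decide +kernel
theorem c14 : allL (D.tC Z) ((((pcE 2 Dat.l7 W).zip MU).drop 14).take 1) = true := by decide +kernel
theorem c18 : allL (D.tC Z) ((((pcE 2 Dat.l7 W).zip MU).drop 18).take 1) = true := by decide +kernel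
theorem c22 : allL (D.tC Z) ((((pcE 2 Dat.l7 W).zip MU).drop 22).take 1) = true := by decide +kernel
theorem c26 : allL (D.tC Z) ((((pcE 2 Dat.l7 W).zip MU).drop 26).take 1) = true := by decide +kernel
end H0.EH2M
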