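import Cfsg.Agent.H0.EH2M.D
set_option maxRecDepth 100000
set_option Elab.async false
namespace H0.EH2M
open H0 BN H2M
theorem a4 : allL D.tA ((TA.drop 4).take 2) = true := by decide +kernel
theorem a12 : allL D.tA ((TA.drop 12).take 2) = true := by decide +kernel
theorem b1 : allL D.tB ((TB.drop 1).take 1) = true := by decide +kernel
theorem b5 : allL D.tB ((TB.drop 5).take 1) = true := by decide +kernel
theorem b9 : allL D.tB ((TB.drop 9).take 1) = true := by decide +kernel
theorem b13 : allL D.tB ((TB.drop 13).take 1) = true := by decide +kernel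
theorem b17 : allL D.tB ((TB.drop 17).take 1) = true := by decide +kernel
theorem c3 : allL (D.tC Z) ((((pcE 2 Dat.l7 W).zip MU).drop 3).take 1) = true := by decide +kernel
theorem c7 : allL (D.tC Z) ((((pcE 2 Dat.l7 W).zip MU).drop 7).take 1) = true := by decide +kernel
theorem c11 : allL (D.tC Z) ((((pcE 2 Dat.l7 W).zip MU).drop 11).take 1) = true := by decide +kernel
theorem c15 : allL (D.tC Z) ((((pcE 2 Dat.l7 W).zip MU).drop 15).take 1) = true := by decide +kernel
theorem c19 : allL (D.tC Z) ((((pcE 2 Dat.l7 W).zip MU).drop 19).take 1) = true := by decide +kernel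
theorem c23 : allL (D.tC Z) ((((pcE 2 Dat.l7 W).zip MU).drop 23).take 1) = true := by decide +kernel
theorem c27 : allL (D.tC Z) ((((pcE 2 Dat.l7 W).zip MU).drop 27).take 1) = true := by decide +kernel
end H0.EH2M
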