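import Cfsg.Agent.H0.EH2M.D
set_option maxRecDepth 100000
set_option Elab.async false
namespace H0.EH2M
open H0 BN H2M
theorem a6 : allL D.tA ((TA.drop 6).take 2) = true := by decide +kernel
theorem a14 : allL D.tA ((TA.drop 14).take 2) = true := by decide +kernel
theorem b2 : allL D.tB ((TB.drop 2).take 1) = true := by decide +kernel
theorem b6 : allL D.tB ((TB.drop 6).take 1) = true := by decide +kernel
theorem b10 : allL D.tB ((TB.drop 10).take 1) = true := by decide +kernel
theorem b14 : allL D.tB ((TB.drop 14).take 1) = true := by decide +kernel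
theorem c0 : allL (D.tC Z) ((((pcE 2 Dat.l7 W).zip MU).drop 0).take 1) = true := by decide +kernel
theorem c4 : allL (D.tC Z) ((((pcE 2 Dat.l7 W).zip MU).drop 4).take 1) = true := by decide +kernel
theorem c8 : allL (D.tC Z) ((((pcE 2 Dat.l7 W).zip MU).drop 8).take 1) = true := by decide +kernel
theorem c12 : allL (D.tC Z) ((((pcE 2 Dat.l7 W).zip MU).drop 12).take 1) = true := by decide +kernel
theorem c16 : allL (D.tC Z) ((((pcE 2 Dat.l7 W).zip MU).drop 16).take 1) = true := by decide +kernel
theorem c20 : allL (D.tC Z) ((((pcE 2 Dat.l7 W).zip MU).drop 20).take 1) = true := by decide +kernel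
theorem c24 : allL (D.tC Z) ((((pcE 2 Dat.l7 W).zip MU).drop 24).take 1) = true := by decide +kernel
end H0.EH2M
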